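/-
The hundred points and a fixed point free involution.
-/
import Mathlib.Data.List.Range

set_option autoImplicit false
set_option maxRecDepth 100000

namespace CfsgLib.HSMult

/-- The coordinates of the points. -/
def ptsL : List (List ℤ) := [
  [4, 0, 0, 0, 0, 0, 0, 0, 0, 0, 0, 0, 0, 0, 0, 0, 0, 0, 0, 0, 0, 0, 0, 4],
  [2, 0, 0, 0, 0, 0, 0, 0, 2, 2, 0, 0, 2, 2, 0, 2, 2, 0, 0, 0, 0, 0, 0, 2],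
  [1, 1, 1, -3, 1, 1, 1, 1, 1, 1, 1, 1, 1, 1, 1, 1, 1, 1, 1, 1, 1, 1, 1, 1],
  [1, 1, 1, 1, 1, 1, 1, 1, 1, 1, 1, 1, 1, 1, 1, -3, 1, 1, 1, 1, 1, 1, 1, 1],
  [2, 0, 0, 2, 0, 2, 0, 2, 0, 0, 2, 0, 0, 0, 0, 0, 0, 0, 0, 0, 2, 2, 0, 2],
  [2, 2, 0, 2, 0, 0, 0, 2, 0, 2, 0, 0, 0, 0, 0, 0, 2, 0, 2, 0, 0, 0, 0, 2],
  [1, 1, 1, 1, 1, 1, -3, 1, 1, 1, 1, 1, 1, 1, 1, 1, 1, 1, 1, 1, 1, 1, 1, 1],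
  [1, 1, 1, 1, 1, 1, 1, -3, 1, 1, 1, 1, 1, 1, 1, 1, 1, 1, 1, 1, 1, 1, 1, 1],
  [2, 0, 2, 0, 0, 0, 2, 0, 0, 2, 0, 0, 0, 2, 2, 0, 0, 0, 2, 0, 0, 0, 0, 2],
  [1, 1, 1, 1, 1, 1, 1, 1, 1, 1, 1, 1, -3, 1, 1, 1, 1, 1, 1, 1, 1, 1, 1, 1],
  [2, 0, 0, 2, 2, 2, 0, 0, 0, 0, 0, 0, 2, 2, 0, 0, 0, 0, 2, 0, 0, 0, 0, 2],
  [1, -3, 1, 1, 1, 1, 1, 1, 1, 1, 1, 1, 1, 1, 1, 1, 1, 1, 1, 1, 1, 1, 1, 1],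
  [2, 2, 0, 0, 2, 0, 2, 0, 0, 2, 0, 0, 2, 0, 0, 0, 0, 2, 0, 0, 0, 0, 0, 2],
  [1, 1, 1, 1, 1, 1, 1, 1, -3, 1, 1, 1, 1, 1, 1, 1, 1, 1, 1, 1, 1, 1, 1, 1],
  [2, 0, 2, 2, 2, 0, 0, 0, 2, 2, 0, 0, 0, 0, 0, 0, 0, 0, 0, 0, 0, 2, 0, 2],
  [1, 1, 1, 1, 1, 1, 1, 1, 1, 1, 1, 1, 1, 1, 1, 1, 1, 1, -3, 1, 1, 1, 1, 1],
  [2, 2, 0, 2, 0, 0, 2, 0, 2, 0, 2, 0, 0, 2, 0, 0, 0, 0, 0, 0, 0, 0, 0, 2],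
  [1, 1, -3, 1, 1, 1, 1, 1, 1, 1, 1, 1, 1, 1, 1, 1, 1, 1, 1, 1, 1, 1, 1, 1],
  [1, 1, 1, 1, 1, 1, 1, 1, 1, 1, 1, 1, 1, 1, 1, 1, -3, 1, 1, 1, 1, 1, 1, 1],
  [2, 0, 0, 0, 2, 0, 2, 0, 2, 0, 0, 0, 0, 0, 0, 0, 2, 0, 2, 2, 0, 0, 0, 2],
  [2, 0, 2, 2, 0, 0, 2, 0, 0, 0, 0, 0, 2, 0, 0, 0, 2, 0, 0, 0, 2, 0, 0, 2],
  [1, 1, 1, 1, -3, 1, 1, 1, 1, 1, 1, 1, 1, 1, 1, 1, 1, 1, 1, 1, 1, 1, 1, 1],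
  [2, 0, 0, 0, 2, 0, 2, 0, 0, 0, 0, 0, 0, 2, 0, 2, 0, 0, 0, 0, 2, 2, 0, 2],
  [2, 0, 0, 0, 0, 0, 2, 0, 0, 0, 2, 0, 0, 0, 2, 0, 0, 2, 0, 2, 2, 0, 0, 2],
  [1, 1, 1, 1, 1, 1, 1, 1, 1, 1, 1, 1, 1, -3, 1, 1, 1, 1, 1, 1, 1, 1, 1, 1],
  [1, 1, 1, 1, 1, 1, 1, 1, 1, 1, 1, 1, 1, 1, -3, 1, 1, 1, 1, 1, 1, 1, 1, 1],
  [2, 0, 0, 2, 0, 0, 2, 0, 0, 0, 0, 2, 0, 0, 0, 0, 0, 2, 2, 0, 0, 2, 0, 2],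
  [2, 2, 2, 0, 0, 0, 0, 0, 2, 0, 0, 2, 2, 0, 0, 0, 0, 0, 2, 0, 0, 0, 0, 2],
  [2, 0, 0, 2, 2, 0, 2, 2, 0, 0, 0, 0, 0, 0, 2, 0, 0, 0, 0, 0, 0, 0, 2, 2],
  [2, 2, 0, 0, 2, 0, 0, 0, 0, 0, 2, 0, 0, 0, 2, 0, 0, 0, 2, 0, 0, 2, 0, 2],
  [2, 2, 0, 2, 0, 0, 0, 0, 0, 0, 0, 0, 2, 0, 0, 2, 0, 0, 0, 0, 0, 2, 2, 2],
  [1, 1, 1, 1, 1, 1, 1, 1, 1, 1, 1, -3, 1, 1, 1, 1, 1, 1, 1, 1, 1, 1, 1, 1],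
  [2, 0, 2, 0, 2, 0, 0, 0, 0, 0, 0, 0, 2, 0, 2, 2, 0, 0, 0, 2, 0, 0, 0, 2],
  [2, 0, 0, 2, 0, 0, 0, 2, 2, 0, 0, 0, 2, 0, 0, 0, 0, 2, 0, 2, 0, 0, 0, 2],
  [2, 0, 0, 0, 0, 2, 0, 0, 0, 0, 0, 2, 2, 0, 0, 2, 0, 2, 0, 0, 2, 0, 0, 2],
  [1, 1, 1, 1, 1, -3, 1, 1, 1, 1, 1, 1, 1, 1, 1, 1, 1, 1, 1, 1, 1, 1, 1, 1],
  [2, 0, 0, 0, 0, 0, 2, 0, 0, 0, 0, 2, 2, 2, 0, 0, 0, 0, 0, 2, 0, 0, 2, 2],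
  [2, 2, 2, 0, 2, 0, 0, 0, 0, 0, 0, 0, 0, 2, 0, 0, 2, 0, 0, 0, 0, 0, 2, 2],
  [2, 0, 2, 0, 0, 2, 0, 0, 2, 0, 0, 0, 0, 2, 0, 0, 0, 0, 0, 2, 2, 0, 0, 2],
  [2, 2, 0, 0, 0, 0, 2, 0, 0, 0, 0, 2, 0, 0, 2, 2, 2, 0, 0, 0, 0, 0, 0, 2],
  [1, 1, 1, 1, 1, 1, 1, 1, 1, 1, -3, 1, 1, 1, 1, 1, 1, 1, 1, 1, 1, 1, 1, 1],
  [2, 0, 0, 2, 2, 0, 0, 0, 0, 0, 2, 0, 0, 0, 0, 2, 2, 2, 0, 0, 0, 0, 0, 2],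
  [2, 0, 2, 0, 0, 2, 0, 2, 0, 2, 0, 0, 2, 0, 0, 0, 0, 0, 0, 0, 0, 0, 2, 2],
  [1, 1, 1, 1, 1, 1, 1, 1, 1, 1, 1, 1, 1, 1, 1, 1, 1, 1, 1, 1, -3, 1, 1, 1],
  [2, 0, 0, 0, 0, 0, 2, 2, 2, 2, 0, 2, 0, 0, 0, 0, 0, 0, 0, 0, 2, 0, 0, 2],
  [2, 2, 2, 0, 0, 0, 0, 0, 0, 2, 2, 0, 0, 0, 0, 2, 0, 0, 0, 0, 2, 0, 0, 2],
  [2, 2, 0, 0, 0, 0, 0, 2, 0, 0, 2, 2, 0, 0, 0, 0, 0, 2, 0, 0, 0, 0, 2, 2],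
  [1, 1, 1, 1, 1, 1, 1, 1, 1, 1, 1, 1, 1, 1, 1, 1, 1, -3, 1, 1, 1, 1, 1, 1],
  [2, 2, 0, 2, 2, 0, 0, 0, 0, 0, 0, 2, 0, 0, 0, 0, 0, 0, 0, 2, 2, 0, 0, 2],
  [2, 0, 0, 0, 0, 0, 2, 2, 0, 0, 2, 0, 2, 0, 0, 2, 0, 0, 2, 0, 0, 0, 0, 2],
  [2, 0, 0, 0, 0, 2, 0, 2, 0, 0, 0, 2, 0, 0, 2, 0, 0, 0, 2, 2, 0, 0, 0, 2],
  [2, 0, 2, 0, 2, 0, 0, 2, 0, 0, 0, 0, 0, 0, 0, 0, 0, 2, 2, 0, 2, 0, 0, 2],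
  [2, 0, 2, 0, 0, 0, 2, 0, 2, 0, 0, 0, 0, 0, 0, 2, 0, 2, 0, 0, 0, 0, 2, 2],
  [2, 2, 0, 0, 0, 0, 0, 2, 0, 0, 0, 0, 2, 2, 2, 0, 0, 0, 0, 0, 2, 0, 0, 2],
  [2, 0, 0, 0, 2, 0, 0, 0, 2, 0, 0, 2, 0, 2, 2, 0, 0, 2, 0, 0, 0, 0, 0, 2],
  [2, 0, 0, 2, 0, 2, 0, 0, 2, 0, 0, 2, 0, 0, 0, 0, 2, 0, 0, 0, 0, 0, 2, 2],
  [2, 0, 0, 0, 0, 0, 0, 0, 2, 0, 2, 2, 0, 0, 0, 2, 0, 0, 0, 2, 0, 2, 0, 2],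
  [1, 1, 1, 1, 1, 1, 1, 1, 1, 1, 1, 1, 1, 1, 1, 1, 1, 1, 1, 1, 1, -3, 1, 1],
  [2, 2, 0, 0, 0, 0, 0, 0, 0, 0, 0, 0, 0, 2, 0, 2, 0, 2, 2, 2, 0, 0, 0, 2],
  [2, 0, 0, 0, 0, 2, 2, 0, 2, 0, 0, 0, 2, 0, 2, 0, 0, 0, 0, 0, 0, 2, 0, 2],
  [2, 0, 0, 2, 0, 0, 0, 0, 0, 0, 0, 0, 0, 2, 2, 0, 2, 0, 0, 2, 0, 2, 0, 2],
  [2, 0, 0, 0, 2, 0, 0, 0, 0, 2, 0, 2, 0, 0, 0, 2, 0, 0, 2, 0, 0, 0, 2, 2],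
  [2, 0, 0, 2, 0, 0, 0, 0, 0, 2, 0, 0, 0, 2, 0, 0, 0, 2, 0, 0, 2, 0, 2, 2],
  [2, 0, 0, 2, 0, 0, 0, 0, 0, 2, 2, 2, 2, 0, 2, 0, 0, 0, 0, 0, 0, 0, 0, 2],
  [2, 0, 2, 0, 0, 2, 0, 0, 0, 0, 0, 0, 0, 0, 0, 2, 2, 0, 2, 0, 0, 2, 0, 2],
  [2, 0, 2, 0, 0, 0, 0, 0, 0, 0, 0, 2, 0, 0, 2, 0, 0, 0, 0, 0, 2, 2, 2, 2],
  [2, 0, 2, 2, 0, 0, 0, 0, 0, 0, 2, 0, 0, 0, 0, 0, 0, 0, 2, 2, 0, 0, 2, 2],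
  [1, 1, 1, 1, 1, 1, 1, 1, 1, 1, 1, 1, 1, 1, 1, 1, 1, 1, 1, -3, 1, 1, 1, 1],
  [2, 2, 0, 0, 2, 2, 0, 2, 2, 0, 0, 0, 0, 0, 0, 2, 0, 0, 0, 0, 0, 0, 0, 2],
  [2, 0, 0, 0, 2, 2, 0, 0, 0, 0, 0, 0, 0, 0, 0, 0, 0, 2, 0, 2, 0, 2, 2, 2],
  [2, 2, 2, 0, 0, 0, 2, 2, 0, 0, 0, 0, 0, 0, 0, 0, 0, 0, 0, 2, 0, 2, 0, 2],
  [2, 0, 0, 0, 0, 0, 2, 0, 0, 2, 2, 0, 0, 0, 0, 0, 2, 0, 0, 0, 0, 2, 2, 2],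
  [2, 0, 0, 0, 0, 0, 0, 2, 0, 0, 0, 0, 0, 0, 0, 2, 2, 0, 0, 2, 2, 0, 2, 2],
  [2, 0, 2, 2, 0, 0, 0, 2, 0, 0, 0, 2, 0, 2, 0, 2, 0, 0, 0, 0, 0, 0, 0, 2],
  [2, 2, 0, 0, 0, 2, 0, 0, 0, 0, 2, 0, 2, 0, 0, 0, 2, 0, 0, 2, 0, 0, 0, 2],
  [2, 0, 0, 2, 0, 2, 2, 0, 0, 2, 0, 0, 0, 0, 0, 2, 0, 0, 0, 2, 0, 0, 0, 2],
  [2, 0, 0, 0, 0, 0, 0, 2, 2, 0, 0, 0, 0, 2, 0, 0, 0, 0, 2, 0, 0, 2, 2, 2],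
  [2, 0, 0, 0, 2, 0, 0, 2, 0, 2, 2, 0, 0, 2, 0, 0, 0, 0, 0, 2, 0, 0, 0, 2],
  [2, 0, 2, 0, 0, 0, 0, 2, 2, 0, 2, 0, 0, 0, 2, 0, 2, 0, 0, 0, 0, 0, 0, 2],
  [2, 0, 0, 0, 0, 0, 0, 0, 0, 2, 0, 0, 2, 0, 0, 0, 0, 0, 2, 2, 2, 2, 0, 2],
  [2, 0, 0, 2, 0, 0, 0, 0, 2, 0, 0, 0, 0, 0, 2, 2, 0, 0, 2, 0, 2, 0, 0, 2],
  [2, 0, 0, 0, 2, 2, 0, 0, 0, 2, 0, 0, 0, 0, 2, 0, 2, 0, 0, 0, 2, 0, 0, 2],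
  [2, 0, 2, 0, 2, 2, 2, 0, 0, 0, 2, 2, 0, 0, 0, 0, 0, 0, 0, 0, 0, 0, 0, 2],
  [2, 0, 0, 0, 2, 0, 0, 0, 2, 0, 2, 0, 2, 0, 0, 0, 0, 0, 0, 0, 2, 0, 2, 2],
  [2, 0, 0, 0, 0, 2, 2, 2, 0, 0, 0, 0, 0, 2, 0, 0, 2, 2, 0, 0, 0, 0, 0, 2],
  [2, 0, 0, 0, 0, 2, 0, 0, 0, 0, 2, 0, 0, 2, 2, 2, 0, 0, 0, 0, 0, 0, 2, 2],
  [2, 2, 0, 0, 0, 0, 0, 0, 2, 2, 0, 0, 0, 0, 2, 0, 0, 0, 0, 2, 0, 0, 2, 2],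
  [1, 1, 1, 1, 1, 1, 1, 1, 1, -3, 1, 1, 1, 1, 1, 1, 1, 1, 1, 1, 1, 1, 1, 1],
  [1, 1, 1, 1, 1, 1, 1, 1, 1, 1, 1, 1, 1, 1, 1, 1, 1, 1, 1, 1, 1, 1, -3, 1],
  [2, 0, 0, 0, 0, 2, 0, 0, 2, 2, 2, 0, 0, 0, 0, 0, 0, 2, 2, 0, 0, 0, 0, 2],
  [2, 0, 2, 0, 0, 0, 0, 0, 0, 2, 0, 2, 0, 0, 0, 0, 2, 2, 0, 2, 0, 0, 0, 2],
  [2, 2, 2, 2, 0, 2, 0, 0, 0, 0, 0, 0, 0, 0, 2, 0, 0, 2, 0, 0, 0, 0, 0, 2],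
  [2, 2, 0, 0, 0, 2, 2, 0, 0, 0, 0, 0, 0, 0, 0, 0, 0, 0, 2, 0, 2, 0, 2, 2],
  [2, 0, 2, 0, 0, 0, 0, 0, 0, 0, 2, 0, 2, 2, 0, 0, 0, 2, 0, 0, 0, 2, 0, 2],
  [2, 0, 0, 0, 0, 0, 0, 2, 0, 2, 0, 0, 0, 0, 2, 2, 0, 2, 0, 0, 0, 2, 0, 2],
  [2, 0, 0, 0, 0, 0, 0, 0, 0, 0, 0, 0, 2, 0, 2, 0, 2, 2, 2, 0, 0, 0, 2, 2],
  [2, 2, 0, 0, 0, 2, 0, 0, 0, 2, 0, 2, 0, 2, 0, 0, 0, 0, 0, 0, 0, 2, 0, 2],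
  [2, 0, 0, 0, 2, 0, 0, 2, 0, 0, 0, 2, 2, 0, 0, 0, 2, 0, 0, 0, 0, 2, 0, 2],
  [2, 0, 0, 0, 0, 0, 0, 0, 0, 0, 2, 2, 0, 2, 0, 0, 2, 0, 2, 0, 2, 0, 0, 2],
  [2, 2, 0, 0, 0, 0, 0, 0, 2, 0, 0, 0, 0, 0, 0, 0, 2, 2, 0, 0, 2, 2, 0, 2]]

/-- The word of the involution. -/
def tWord : List (ℕ × ℕ) := [(2, 3), (0, 1), (2, 1), (1, 1), (0, 1), (2, 3), (0, 1), (2, 1), (1, 1), (0, 1), (2, 3), (0, 1), (2, 1), (1, 1), (0, 1)]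

/-- The transpositions of the involution. -/
def tPairs : List (ℕ × ℕ) := [(0, 58), (1, 12), (2, 20), (3, 47), (4, 9), (5, 77), (6, 28), (7, 59), (8, 74), (10, 86), (11, 24), (13, 78), (14, 17), (15, 67), (16, 96), (18, 55), (19, 79), (21, 82), (22, 99), (23, 64), (25, 44), (26, 56), (27, 36), (29, 60), (30, 54), (31, 81), (32, 95), (33, 61), (34, 52), (35, 97), (37, 53), (38, 92), (39, 93), (40, 83), (41, 94), (42, 57), (43, 63), (45, 84), (46, 73), (48, 76), (49, 90), (50, 66), (51, 72), (62, 68), (65, 87), (69, 80), (70, 98), (71, 88), (75, 89), (85, 91)]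

/-- The images of the points under the involution. -/
def tImg : List ℕ := [58, 12, 20, 47, 9, 77, 28, 59, 74, 4, 86, 24, 1, 78, 17, 67, 96, 14, 55, 79, 2, 82, 99, 64, 11, 44, 56, 36, 6, 60, 54, 81, 95, 61, 52, 97, 27, 53, 92, 93, 83, 94, 57, 63, 25, 84, 73, 3, 76, 90, 66, 72, 34, 37, 30, 18, 26, 42, 0, 7, 29, 33, 68, 43, 23, 87, 50, 15, 62, 80, 98, 88, 51, 46, 8, 89, 48, 5, 13, 19, 69, 31, 21, 40, 45, 91, 10, 65, 71, 75, 49, 85, 38, 39, 41, 32, 16, 35, 70, 22]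

end CfsgLib.HSMult
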