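/-
The double cover of the Higman-Sims group from the action on a hundred points.
-/
import Cfsg.Agent.AltCover.SpinSquare
import Cfsg.Agent.HSMult.Points
import Cfsg.Agent.OutConway.PairHS
import Cfsg.Prelude.Def_KGroupFacts

set_option autoImplicit false
set_option maxRecDepth 100000

namespace CfsgLib.HSMult

open Cfsg CfsgLib CfsgLib.Golay CfsgLib.Leech CfsgLib.OutConway CfsgLib.OutConway.Hundred
open Cfsg.Agent.HSGraph.Lat (Sel Pts)
open CfsgLib.AltCover (coverProj coverNeg prodSwap Disjt Fresh)

attribute [local irreducible] shortVecs halfTable quarterTable codeFinset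

/-- The generators in the full group. -/
noncomputable def gensC : List Co0 := [bA, cA, hA]

theorem gens_mem : ∀ g ∈ gensC, g ∈ H := fun g hg => by
  simp only [gensC, List.mem_cons, List.not_mem_nil, or_false] at hg
  rcases hg with rfl | rfl | rfl
  exacts [bmem, cmem, emem]

theorem selU : Sel (Spor.leechU : GolayPt → ℤ) := by
  show Sel Spor.vecU
  unfold Sel; decide +kernel

/-- The points. -/
noncomputable def point (i : Fin 100) : Pts :=
  ⟨evG gensC (orbitWords.getD i []) • Spor.leechU,
    Cfsg.Agent.HSGraph.Lat.sel_smul (ev_mem gens_mem _) selU⟩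

theorem pts_check : (List.range 100).map (fun i => evF funs3 (orbitWords.getD i []) (co Spor.vecU)) = ptsL := by
  decide +kernel

theorem pts_distinct : ptsL.Nodup ∧ ptsL.length = 100 := by decide +kernel

theorem co_point (i : Fin 100) : co ((point i).1 : GolayPt → ℤ) = ptsL.getD i [] := by
  rw [← pts_check, List.getD_eq_getElem _ _ (by simp), List.getElem_map, List.getElem_range]
  exact (sim_ev sims₃ _) Spor.leechU

theorem point_bij : Function.Bijective point := by
  haveI : Finite Pts := Nat.finite_of_card_ne_zero (by rw [Cfsg.Agent.HSGraph.Lat.card_pts_sel]; norm_num)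
  refine (Nat.bijective_iff_injective_and_card point).2 ⟨fun a b e => ?_, by
    rw [Nat.card_fin, Cfsg.Agent.HSGraph.Lat.card_pts_sel]⟩
  have e' := congrArg (fun z : Pts => co ((z.1 : leechLattice) : GolayPt → ℤ)) e
  simp only [co_point] at e'
  have ha : (a : ℕ) < ptsL.length := by rw [pts_distinct.2]; exact a.2
  have hb : (b : ℕ) < ptsL.length := by rw [pts_distinct.2]; exact b.2
  rw [List.getD_eq_getElem _ _ ha, List.getD_eq_getElem _ _ hb] at e'
  exact Fin.ext ((pts_distinct.1.getElem_inj_iff).1 e')

/-- The numbering of the points. -/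
noncomputable def numbering : Fin 100 ≃ Pts := Equiv.ofBijective point point_bij

/-- The permutations of the points. -/
noncomputable def act : H →* Equiv.Perm (Fin 100) :=
  MonoidHom.mk' (fun g => (numbering.trans (Cfsg.Agent.HSGraph.Lat.actPts g)).trans numbering.symm) fun g h => by
    refine Equiv.ext fun i => ?_
    simp only [Equiv.trans_apply, Equiv.Perm.mul_apply, Equiv.apply_symm_apply]
    congr 1

theorem act_eq {g : H} {i j : Fin 100} (h : (g : Co0) • (point i).1 = (point j).1) : act g i = j := by
  refine numbering.symm_apply_eq.2 ?_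
  exact Subtype.ext h

/-- The involution. -/
noncomputable def tH : H := evG [bH, cH, eH] tWord

theorem sim_tH : Sim (tH : Co0) (evF funs3 tWord) := by
  rw [show (tH : Co0) = evG gensC tWord from map_ev H.subtype [bH, cH, eH] tWord]
  exact sim_ev sims₃ _

theorem t_sq_check : sameAct (fun x => evF funs3 tWord (evF funs3 tWord x)) id = true := by decide +kernel

theorem tH_sq : tH * tH = 1 := Subtype.ext (eq_one_of_sim (sim_tH.mul sim_tH) t_sq_check)

theorem t_img_check : ((List.range 100).all fun i =>
    decide (tImg.getD i 0 < 100) && evF funs3 tWord (ptsL.getD i []) == ptsL.getD (tImg.getD i 0) []) = true := by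
  decide +kernel

/-- The transpositions. -/
def pairsF : List (Fin 100 × Fin 100) := tPairs.map fun e => (Fin.ofNat 100 e.1, Fin.ofNat 100 e.2)

theorem pairs_check : ((List.finRange 100).all fun i => Nat.beq (prodSwap pairsF i).val (tImg.getD i.val 0)) = true := by
  decide +kernel

theorem act_t : act tH = prodSwap pairsF := by
  refine Equiv.ext fun i => act_eq ?_
  have h1 := List.all_eq_true.1 t_img_check i.val (List.mem_range.2 i.2)
  have h2 := Nat.eq_of_beq_eq_true (List.all_eq_true.1 pairs_check i (List.mem_finRange i))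
  simp only [Bool.and_eq_true, decide_eq_true_eq, beq_iff_eq] at h1
  refine Subtype.ext (co_injective ?_)
  rw [sim_tH, co_point, co_point, h2]
  exact h1.2

/-- The test for disjoint pairs. -/
def disjB : List (Fin 100 × Fin 100) → Bool
  | [] => true
  | e :: l => decide (e.1 ≠ e.2) &&
      l.all (fun f => decide (e.1 ≠ f.1 ∧ e.1 ≠ f.2 ∧ e.2 ≠ f.1 ∧ e.2 ≠ f.2)) && disjB l

theorem disjt_of_disjB : ∀ l : List (Fin 100 × Fin 100), disjB l = true → Disjt l := by
  intro l
  induction l with
  | nil => exact fun _ => trivial
  | cons e l ih =>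
    intro h
    simp only [disjB, Bool.and_eq_true, decide_eq_true_eq, List.all_eq_true] at h
    exact ⟨⟨h.1.1, h.1.2⟩, ih h.2⟩

theorem pairs_ok : disjB pairsF = true ∧ pairsF.length = 50 := by decide +kernel

theorem lift_t {c : AltCover.cover 100} (hc : coverProj 100 c = act tH) : c * c = coverNeg 100 :=
  AltCover.lift_sq (disjt_of_disjB _ pairs_ok.1) (by rw [pairs_ok.2]; decide) (by rw [pairs_ok.2]; decide)
    (hc.trans act_t)

theorem card_H : Nat.card H = 44352000 := Cfsg.Agent.HSGraph.Lat.card_pairStab

instance finite_H : Finite H := Nat.finite_of_card_ne_zero (by rw [card_H]; norm_num)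

theorem simple_H : IsSimpleGroup H := Cfsg.Agent.HSGraph.Lat.isHS_pairStab.1

theorem bc_check : sameAct (fun x => permA bL (matA hMat x)) (fun x => matA hMat (permA bL x)) = false := by
  decide +kernel

theorem perfect : _root_.commutator H = ⊤ := by
  haveI := simple_H
  rcases Subgroup.Normal.eq_bot_or_eq_top (inferInstance : (_root_.commutator H).Normal) with h | h
  · exfalso
    have hm := Subgroup.commutator_mem_commutator (Subgroup.mem_top bH) (Subgroup.mem_top eH)
    rw [← commutator_def, h, Subgroup.mem_bot, commutatorElement_eq_one_iff_mul_comm] at hm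
    have := sameAct_of_eq (sim_b.mul sim_h) (sim_h.mul sim_b) (congrArg Subtype.val hm)
    rw [bc_check] at this
    exact Bool.false_ne_true this
  · exact h

theorem sign_act (g : H) : Equiv.Perm.sign (act g) = 1 := by
  have h : _root_.commutator H ≤ (Equiv.Perm.sign.comp act).ker :=
    Abelianization.commutator_subset_ker _
  exact h (perfect ▸ Subgroup.mem_top g)

/-- The pullback of the cover. -/
noncomputable def cov : Subgroup (AltCover.cover 100 × H) :=
  ((coverProj 100).comp (MonoidHom.fst _ _)).eqLocus (act.comp (MonoidHom.snd _ _))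

theorem mem_cov {q : AltCover.cover 100 × H} : q ∈ cov ↔ coverProj 100 q.1 = act q.2 := Iff.rfl

/-- The covering map. -/
noncomputable def covMap : cov →* H := (MonoidHom.snd _ _).comp cov.subtype

theorem exists_stem : ∃ (Γ : Type) (_ : Group Γ) (_ : Finite Γ) (σ : Γ →* H),
    Cfsg.IsStemExtension σ ∧ Nonempty (σ.ker ≃* Multiplicative (ZMod 2)) := by
  classical
  haveI := AltCover.cover_finite (n := 100)
  let z : cov := ⟨(coverNeg 100, 1), mem_cov.2 (by rw [AltCover.coverProj_neg, map_one])⟩
  have hsur : Function.Surjective covMap := fun g => by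
    obtain ⟨c, hc⟩ := AltCover.coverProj_surj (sign_act g)
    exact ⟨⟨(c, g), mem_cov.2 hc⟩, rfl⟩
  have hker : ∀ x ∈ covMap.ker, x = 1 ∨ x = z := by
    rintro ⟨⟨c, g⟩, hq⟩ hx
    obtain rfl : g = 1 := hx
    rcases AltCover.coverProj_ker (c := c) ((mem_cov.1 hq).trans (map_one _)) with rfl | rfl
    · exact Or.inl rfl
    · exact Or.inr rfl
  have hzc : ∀ x : cov, x * z = z * x := fun x =>
    Subtype.ext (Prod.ext (AltCover.coverNeg_central _) (by
      show x.1.2 * 1 = 1 * x.1.2
      rw [mul_one, one_mul]))
  refine ⟨cov, inferInstance, inferInstance, covMap, ⟨hsur, fun x hx => ?_, fun x hx => ?_⟩, ?_⟩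
  · rcases hker x hx with rfl | rfl
    · exact one_mem _
    · exact Subgroup.mem_center_iff.2 hzc
  · rcases hker x hx with rfl | rfl
    · exact one_mem _
    · -- the square of a lift of the involution
      have hmap : (_root_.commutator cov).map covMap = ⊤ := by
        rw [commutator_def, Subgroup.map_commutator, Subgroup.map_top_of_surjective _ hsur, ← commutator_def]
        exact perfect
      obtain ⟨d, hd, hdt⟩ := Subgroup.mem_map.1 (hmap ▸ Subgroup.mem_top tH : tH ∈ (_root_.commutator cov).map covMap)
      have h2 : d * d = z := by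
        refine Subtype.ext (Prod.ext (lift_t ?_) ?_)
        · rw [mem_cov.1 d.2]; exact congrArg act hdt
        · show d.1.2 * d.1.2 = 1
          rw [show d.1.2 = tH from hdt, tH_sq]
      exact h2 ▸ mul_mem hd hd
  · have hz : z ∈ covMap.ker := rfl
    have hzne : z ≠ 1 := fun h => AltCover.coverNeg_ne (congrArg (fun q : cov => q.1.1) h)
    have hc : Nat.card covMap.ker = 2 := by
      rw [Nat.card_eq_two_iff]
      refine ⟨1, ⟨z, hz⟩, fun h => hzne (congrArg Subtype.val h).symm, ?_⟩
      refine Set.eq_univ_of_forall fun x => ?_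
      rcases hker x.1 x.2 with h | h
      · exact Or.inl (Subtype.ext h)
      · exact Or.inr (Subtype.ext h)
    haveI : Fact (Nat.Prime 2) := ⟨Nat.prime_two⟩
    exact ⟨mulEquivOfPrimeCardEq hc (by simp)⟩

end CfsgLib.HSMult
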