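/-
The tests for the 3-part of the multiplier of HS.
-/
import Cfsg.Agent.HSMult.Base
import Cfsg.Agent.HSMult.DataThree

set_option autoImplicit false
set_option maxRecDepth 100000

namespace CfsgLib.HSMult.Three

open CfsgLib.CentralCert CfsgLib.Co0Model CfsgLib.OutConway

theorem codes_ok : pick oneCode (slpN oneCode mmul prog base 3) sel = codes := by decide +kernel
theorem rels_ok : upperData.relsOK oneCode mmul codes = true := by decide +kernel
theorem stab_eq : upperData.sTab oneCode mmul codes = pgCodes := by decide +kernel
theorem pc_ok : upperData.pcOK 3 oneCode mmul (upperData.sTab oneCode mmul codes) = true := by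
  rw [stab_eq]
  decide +kernel
theorem fus_ok : upperData.fusOK oneCode mmul codes = true := by decide +kernel
theorem k_ok : upperData.kOK = true := by decide +kernel
theorem sec_ok : upperData.secOK = true := by decide +kernel
theorem ident_ok : upperData.identOK = true := by decide +kernel

end CfsgLib.HSMult.Three
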