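/-
The multiplier of the Higman-Sims group has order two.
-/
import Cfsg.Agent.HSMult.OKTwo
import Cfsg.Agent.HSMult.OKThree
import Cfsg.Agent.HSMult.OKFive
import Cfsg.Agent.HSMult.Cover
import Cfsg.Agent.CentralCert.Assemble

set_option autoImplicit false

namespace CfsgLib.HSMult

open Cfsg CfsgLib CfsgLib.Leech CfsgLib.CentralCert CfsgLib.Co0Model CfsgLib.OutConway

attribute [local irreducible] shortVecs halfTable quarterTable codeFinset

/-- The bound from one subgroup. -/
theorem part (D : Upper) (p : ℕ) (prog : List (ℕ × ℕ)) (sel codes : List ℕ)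
    (hc : pick oneCode (slpN oneCode mmul prog base 3) sel = codes)
    (hNF : D.NF = stdWords p 0 D.W.length)
    (h1 : D.relsOK oneCode mmul codes = true)
    (h2 : D.pcOK p oneCode mmul (D.sTab oneCode mmul codes) = true)
    (h3 : D.fusOK oneCode mmul codes = true) (h4 : D.kOK = true) (h5 : D.secOK = true) (h6 : D.identOK = true)
    {Γ : Type*} [Group Γ] [Finite Γ] {σ : Γ →* Hundred.H} (hσ : Cfsg.IsStemExtension σ) :
    ∃ E : ℕ → Γ, (∀ i, E i ∈ σ.ker) ∧ (∀ i < D.e.length, E i ^ D.d.getD i 0 = 1) ∧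
      ∀ z ∈ σ.ker, ∀ m, m * D.NF.length = Nat.card Hundred.H →
        z ^ m ∈ Subgroup.closure {y | ∃ i < D.e.length, E i = y} :=
  D.bound_pc (modelSub Hundred.H) p (fun i => enc_pick (modelSub Hundred.H) gens_enc hc i) hNF h1 h2 h3 h4 h5 h6 hσ

theorem lens : Two.upperData.e.length = 1 ∧ Two.upperData.d.getD 0 0 = 2 ∧
    Three.upperData.e.length = 0 ∧ Five.upperData.e.length = 0 ∧
    86625 * Two.upperData.NF.length = 44352000 ∧ 4928000 * Three.upperData.NF.length = 44352000 ∧
    354816 * Five.upperData.NF.length = 44352000 := by decide +kernel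

theorem ker_cyclic {Γ : Type} [Group Γ] [Finite Γ] {σ : Γ →* Hundred.H} (hσ : Cfsg.IsStemExtension σ) :
    ∃ π : Multiplicative (ZMod 2) →* σ.ker, Function.Surjective π := by
  obtain ⟨E, hE, hEd, hgen⟩ := part Two.upperData 2 Two.prog Two.sel Two.codes Two.codes_ok rfl Two.rels_ok
    Two.pc_ok Two.fus_ok Two.k_ok Two.sec_ok Two.ident_ok hσ
  obtain ⟨E3, -, -, hgen3⟩ := part Three.upperData 3 Three.prog Three.sel Three.codes Three.codes_ok rfl
    Three.rels_ok Three.pc_ok Three.fus_ok Three.k_ok Three.sec_ok Three.ident_ok hσ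
  obtain ⟨E5, -, -, hgen5⟩ := part Five.upperData 5 Five.prog Five.sel Five.codes Five.codes_ok rfl
    Five.rels_ok Five.pc_ok Five.fus_ok Five.k_ok Five.sec_ok Five.ident_ok hσ
  obtain ⟨l2, ld, l3, l5, n2, n3, n5⟩ := lens
  have h0 : E 0 ^ 2 = 1 := by
    have h := hEd 0 (by rw [l2]; norm_num)
    rwa [ld] at h
  refine exists_surj_one hσ.2.1 (hE 0) h0 fun z hz => ?_
  refine pow_coprime_mem hσ (m := 77) (fun e he => ?_) (fun z hz => ?_) hz
  · rw [card_H] at he
    have hle : e ≤ 6660 := by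
      by_contra hc
      have h2 : 6661 ^ 2 ≤ e ^ 2 := Nat.pow_le_pow_left (not_le.mp hc) 2
      have := Nat.le_of_dvd (by norm_num) he
      omega
    have h7 : ¬ 7 ∣ e := fun h =>
      absurd ((pow_dvd_pow_of_dvd h 2).trans he) (by decide)
    have h11 : ¬ 11 ∣ e := fun h =>
      absurd ((pow_dvd_pow_of_dvd h 2).trans he) (by decide)
    rw [show (77 : ℕ) = 7 * 11 by norm_num]
    exact Nat.Coprime.mul_right (((by norm_num : Nat.Prime 7).coprime_iff_not_dvd.2 h7).symm)
      (((by norm_num : Nat.Prime 11).coprime_iff_not_dvd.2 h11).symm)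
  · have a := hgen z hz 86625 (n2.trans card_H.symm)
    have b := hgen3 z hz 4928000 (n3.trans card_H.symm)
    have c := hgen5 z hz 354816 (n5.trans card_H.symm)
    have e2 : Subgroup.closure {y | ∃ i < Two.upperData.e.length, E i = y} ≤ Subgroup.zpowers (E 0) := by
      rw [Subgroup.closure_le]
      rintro y ⟨i, hi, rfl⟩
      rw [l2] at hi
      obtain rfl : i = 0 := by omega
      exact Subgroup.mem_zpowers _
    simp only [l3, l5, Nat.not_lt_zero, false_and, exists_false, Set.setOf_false, Subgroup.closure_empty,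
      Subgroup.mem_bot] at b c
    have hk : z ^ Nat.gcd 4928000 354816 = 1 := pow_gcd_eq_one.2 ⟨b, c⟩
    have a' : z ^ (86625 : ℕ) ∈ Subgroup.zpowers (E 0) := e2 a
    have hb : z ^ (Nat.gcd 4928000 354816 : ℕ) ∈ Subgroup.zpowers (E 0) := by rw [hk]; exact one_mem _
    have := mem_pow_gcd a' hb
    simpa using this
where
  mem_pow_gcd {Γ : Type} [Group Γ] {S : Subgroup Γ} {z : Γ} {a b : ℕ} (ha : z ^ a ∈ S) (hb : z ^ b ∈ S) :
      z ^ Nat.gcd a b ∈ S := by
    rw [← zpow_natCast, Nat.gcd_eq_gcd_ab, _root_.zpow_add, _root_.zpow_mul, _root_.zpow_mul, zpow_natCast,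
      zpow_natCast]
    exact S.mul_mem (S.zpow_mem ha _) (S.zpow_mem hb _)

theorem multiplier : Cfsg.HasCyclicSchurMultiplier Hundred.H 2 :=
  ⟨exists_stem, fun Γ _ _ σ hσ => ker_cyclic hσ⟩

end CfsgLib.HSMult
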